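import Cfsg.Agent.H10.Walter.Setting
import Cfsg.Agent.H10.AbTwo.Reduce
import Cfsg.Prelude.Def_Exceptional
import Cfsg.Prelude.Def_Sporadic

/-!
# Consumers of Walter's theorem and of Ward's order computation: the common case split

`WardHyp` is the statement of the order theorem for involution centralisers `Z₂ × PSL₂(q)`,
`TypeRCentralizer` says that in a simple group of type R there are no field automorphisms in the
involution centraliser.
-/

set_option autoImplicit false
set_option linter.unusedSectionVars false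
set_option linter.style.haveILetI false

namespace Cfsg.Agent.H28.WardCons

open Subgroup

universe u

/-- The order theorem for simple groups with abelian Sylow 2-subgroups and an involution
centraliser `Z₂ × PSL₂(q)`. -/
def WardHyp : Prop :=
  ∀ (G : Type u) [Group G] [Finite G], IsSimpleGroup G →
    (∀ P : Sylow 2 G, ∀ a b : P, a * b = b * a) →
    ∀ (F : Type) [Field F] [Fintype F], 3 ≤ Fintype.card F →
      ∀ t : G, orderOf t = 2 →
        Nonempty (Subgroup.centralizer ({t} : Set G) ≃*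
          Multiplicative (ZMod 2) × Matrix.ProjectiveSpecialLinearGroup (Fin 2) F) →
        (∃ m : ℕ, 1 ≤ m ∧ Fintype.card F = 3 ^ (2 * m + 1) ∧
          Nat.card G =
            (3 ^ (2 * m + 1)) ^ 3 * ((3 ^ (2 * m + 1)) ^ 3 + 1) * (3 ^ (2 * m + 1) - 1)) ∨
        ((Fintype.card F = 4 ∨ Fintype.card F = 5) ∧ Cfsg.IsJ1 G)

/-- In a simple group of type R an involution centraliser is `Z₂ × PSL₂(q)`. -/
def TypeRCentralizer : Prop :=
  ∀ (G : Type u) [Group G] [Finite G], IsSimpleGroup G → ¬ IsMulCommutative G →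
    H10.Walter.AbSyl G → H10.Walter.IsTypeR G →
    ∃ (t : G) (F : Type) (_ : Field F) (_ : Fintype F), orderOf t = 2 ∧ 5 ≤ Fintype.card F ∧
      (Fintype.card F % 8 = 3 ∨ Fintype.card F % 8 = 5) ∧
      Nonempty (Subgroup.centralizer ({t} : Set G) ≃*
        Multiplicative (ZMod 2) × Matrix.ProjectiveSpecialLinearGroup (Fin 2) F)

variable {G : Type u} [Group G] [Finite G]

/-- A simple group with abelian Sylow 2-subgroups is `PSL₂`, of Ree type order or `J₁`. -/
theorem cases_of_absyl (hW : H10.Walter.WalterHyp.{u}) (hR : TypeRCentralizer.{u})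
    (hWard : WardHyp.{u}) (hs : IsSimpleGroup G) (hna : ¬ IsMulCommutative G)
    (hab : H10.Walter.AbSyl G) :
    H10.Walter.IsEvenPSL G ∨ H10.Walter.IsOddPSL G ∨
      (H10.Walter.IsTypeR G ∧ (Cfsg.IsRee G ∨ Cfsg.IsJ1 G)) := by
  rcases hW G hs hna hab with h | h | h
  · exact Or.inl h
  · exact Or.inr (Or.inl h)
  · refine Or.inr (Or.inr ⟨h, ?_⟩)
    obtain ⟨t, F, _, _, ht, h5, -, he⟩ := hR G hs hna hab h
    rcases hWard G hs (fun P a b => (hab P).1.comm a b) F (by omega) t ht he with
      ⟨m, hm, -, hc⟩ | ⟨-, hj⟩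
    · exact Or.inl ⟨hs, m, hm, hc⟩
    · exact Or.inr hj

/-- The classification of simple groups with abelian Sylow 2-subgroups, with the Ree groups
recognised by their order only. -/
theorem abelian_sylow_two (hW : H10.Walter.WalterHyp.{u}) (hR : TypeRCentralizer.{u})
    (hWard : WardHyp.{u}) [IsSimpleGroup G] (hG : ¬ IsMulCommutative G) (S : Sylow 2 G)
    (hS : IsMulCommutative (S : Subgroup G)) :
    (∃ a : ℕ, 2 ≤ a ∧ ∃ (F : Type) (_ : Field F) (_ : Fintype F), Fintype.card F = 2 ^ a ∧
        Nonempty (G ≃* Matrix.ProjectiveSpecialLinearGroup (Fin 2) F)) ∨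
      (∃ (F : Type) (_ : Field F) (_ : Fintype F),
        (Fintype.card F % 8 = 3 ∨ Fintype.card F % 8 = 5) ∧
          Nonempty (G ≃* Matrix.ProjectiveSpecialLinearGroup (Fin 2) F)) ∨
      Cfsg.IsRee G ∨ Cfsg.IsJ1 G := by
  rcases cases_of_absyl hW hR hWard inferInstance hG (H10.Walter.absyl_of_sylow S hS) with
    ⟨F, _, _, n, hn, hc, he⟩ | ⟨F, _, _, -, h8, he⟩ | ⟨-, h⟩
  · exact Or.inl ⟨n, hn, F, _, _, hc, he⟩
  · exact Or.inr (Or.inl ⟨F, _, _, h8, he⟩)
  · exact Or.inr (Or.inr h)

end Cfsg.Agent.H28.WardCons
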